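import Cfsg.Prelude.Def_BaumannBlocks
import Cfsg.Agent.PLocal.ThompsonJ
set_option linter.all false

/-!
# Basic facts about the Baumann subgroup `B(T)` (any prime `p`)

* transport of `omegaOne`, `centerThompsonOf`, `baumannSubgroupOf`, `omegaOneCenter` along injective
  homomorphisms, normalizers;
* `J(U) = J(T)` for a `p`-group `U ≥ J(T)`, `B(U) = B(T)` for a `p`-group `U ≥ B(T)`.
-/

set_option autoImplicit false

namespace Cfsg.Agent.H258.Bau

open Cfsg Subgroup
open Cfsg.Agent.PLocal.ThompsonJ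

universe u v

section Transport

variable {G : Type u} [Group G] {H : Type v} [Group H] {p : ℕ}

theorem omegaOne_map {f : G →* H} (hf : Function.Injective f) (U : Subgroup G) :
    omegaOne p (U.map f) = (omegaOne p U).map f := by
  unfold omegaOne
  rw [MonoidHom.map_closure]
  congr 1
  ext y
  constructor
  · rintro ⟨⟨x, hx, rfl⟩, h⟩
    exact ⟨x, ⟨hx, hf (by rw [map_pow, h, map_one])⟩, rfl⟩
  · rintro ⟨x, ⟨hx, h⟩, rfl⟩
    exact ⟨⟨x, hx, rfl⟩, by rw [← map_pow, h, map_one]⟩

theorem inf_centralizer_map {f : G →* H} (hf : Function.Injective f) (U K : Subgroup G) :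
    (U ⊓ centralizer (K : Set G)).map f = U.map f ⊓ centralizer ((K.map f : Subgroup H) : Set H) := by
  ext y
  constructor
  · rintro ⟨x, ⟨hx, hc⟩, rfl⟩
    refine ⟨⟨x, hx, rfl⟩, ?_⟩
    rintro _ ⟨k, hk, rfl⟩
    rw [← map_mul, ← map_mul, hc k hk]
  · rintro ⟨⟨x, hx, rfl⟩, hc⟩
    refine ⟨x, ⟨hx, ?_⟩, rfl⟩
    intro k hk
    apply hf
    rw [map_mul, map_mul]
    exact hc (f k) ⟨k, hk, rfl⟩

theorem centerThompsonOf_map {f : G →* H} (hf : Function.Injective f) (U : Subgroup G) :
    centerThompsonOf p (U.map f) = (centerThompsonOf p U).map f := by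
  unfold centerThompsonOf
  rw [inf_centralizer_map hf, thompsonSubgroupOf_map p hf]

theorem baumannSubgroupOf_map {f : G →* H} (hf : Function.Injective f) (U : Subgroup G) :
    baumannSubgroupOf p (U.map f) = (baumannSubgroupOf p U).map f := by
  unfold baumannSubgroupOf
  rw [inf_centralizer_map hf, centerThompsonOf_map hf, omegaOne_map hf]

theorem omegaOneCenter_map {f : G →* H} (hf : Function.Injective f) (U : Subgroup G) :
    omegaOneCenter p (U.map f) = (omegaOneCenter p U).map f := by
  unfold omegaOneCenter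
  rw [← inf_centralizer_map hf, omegaOne_map hf]

theorem omegaOne_mono {U V : Subgroup G} (h : U ≤ V) : omegaOne p U ≤ omegaOne p V :=
  closure_mono fun _ hx => ⟨h hx.1, hx.2⟩

theorem omegaOne_le (U : Subgroup G) : omegaOne p U ≤ U :=
  (closure_le _).2 fun _ hx => hx.1

/-- In an abelian subgroup, `Ω₁` consists of the elements with `x ^ p = 1`. -/
theorem mem_omegaOne_iff {U : Subgroup G} (hU : ∀ x ∈ U, ∀ y ∈ U, x * y = y * x) {x : G} :
    x ∈ omegaOne p U ↔ x ∈ U ∧ x ^ p = 1 := by
  constructor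
  · intro hx
    refine ⟨omegaOne_le U hx, ?_⟩
    have key : ∀ y ∈ omegaOne p U, y ∈ U ∧ y ^ p = 1 := by
      intro y hy
      induction hy using closure_induction with
      | mem y hy => exact hy
      | one => exact ⟨one_mem _, one_pow _⟩
      | mul y z _ _ h1 h2 =>
        refine ⟨mul_mem h1.1 h2.1, ?_⟩
        have : Commute y z := hU y h1.1 z h2.1
        rw [this.mul_pow, h1.2, h2.2, one_mul]
      | inv y _ h1 => exact ⟨inv_mem h1.1, by rw [inv_pow, h1.2, inv_one]⟩
    exact (key x hx).2
  · intro hx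
    exact subset_closure hx

theorem inf_centralizer_self_comm (X : Subgroup G) :
    ∀ x ∈ X ⊓ centralizer (X : Set G), ∀ y ∈ X ⊓ centralizer (X : Set G), x * y = y * x := by
  intro x hx y hy
  exact (hx.2 y hy.1).symm

theorem mem_omegaOneCenter {X : Subgroup G} {x : G} :
    x ∈ omegaOneCenter p X ↔ x ∈ X ∧ (∀ y ∈ X, x * y = y * x) ∧ x ^ p = 1 := by
  unfold omegaOneCenter
  rw [mem_omegaOne_iff (inf_centralizer_self_comm X)]
  constructor
  · rintro ⟨⟨h1, h2⟩, h3⟩
    exact ⟨h1, fun y hy => (h2 y hy).symm, h3⟩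
  · rintro ⟨h1, h2, h3⟩
    exact ⟨⟨h1, fun y hy => (h2 y hy).symm⟩, h3⟩

theorem omegaOneCenter_le (X : Subgroup G) : omegaOneCenter p X ≤ X :=
  fun _ h => (mem_omegaOneCenter.1 h).1

theorem omegaOneCenter_isElementaryAbelian (X : Subgroup G) :
    IsElementaryAbelian p (omegaOneCenter p X) := by
  rw [isElementaryAbelian_iff]
  constructor
  · intro a ha b hb
    exact (mem_omegaOneCenter.1 ha).2.1 b (omegaOneCenter_le X hb)
  · intro a ha
    exact (mem_omegaOneCenter.1 ha).2.2

theorem omegaOneCenter_le_centralizer (X : Subgroup G) :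
    omegaOneCenter p X ≤ centralizer (X : Set G) := by
  intro x hx y hy
  exact ((mem_omegaOneCenter.1 hx).2.1 y hy).symm

theorem le_centralizer_omegaOneCenter (X : Subgroup G) :
    X ≤ centralizer (omegaOneCenter p X : Set G) := by
  intro x hx y hy
  exact (mem_omegaOneCenter.1 hy).2.1 x hx

/-- `Ω₁(Z(J(T)))`. -/
def zj (p : ℕ) (T : Subgroup G) : Subgroup G := omegaOneCenter p (thompsonSubgroupOf p T)

theorem zj_def (T : Subgroup G) : omegaOne p (centerThompsonOf p T) = zj p T := rfl

theorem baumannSubgroupOf_def (T : Subgroup G) :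
    baumannSubgroupOf p T = T ⊓ centralizer (zj p T : Set G) := rfl

theorem baumannSubgroupOf_le (T : Subgroup G) : baumannSubgroupOf p T ≤ T := inf_le_left

theorem mem_baumannSubgroupOf {T : Subgroup G} {x : G} :
    x ∈ baumannSubgroupOf p T ↔ x ∈ T ∧ ∀ z ∈ zj p T, x * z = z * x := by
  rw [baumannSubgroupOf_def, mem_inf]
  constructor
  · rintro ⟨h1, h2⟩
    exact ⟨h1, fun z hz => (h2 z hz).symm⟩
  · rintro ⟨h1, h2⟩
    exact ⟨h1, fun z hz => (h2 z hz).symm⟩

theorem thompsonSubgroupOf_le_baumann (T : Subgroup G) :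
    thompsonSubgroupOf p T ≤ baumannSubgroupOf p T := by
  intro x hx
  rw [mem_baumannSubgroupOf]
  refine ⟨thompsonSubgroupOf_le_self p T hx, fun z hz => ?_⟩
  exact ((mem_omegaOneCenter.1 hz).2.1 x hx).symm

end Transport

section Conj

variable {G : Type u} [Group G] {p : ℕ}

theorem map_conj_eq_iff {g : G} {U : Subgroup G} :
    U.map (MulAut.conj g).toMonoidHom = U ↔ g ∈ normalizer (U : Set G) := by
  rw [mem_normalizer_iff]
  constructor
  · intro h x
    constructor
    · intro hx
      rw [← h]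
      exact ⟨x, hx, rfl⟩
    · intro hx
      rw [← h] at hx
      obtain ⟨y, hy, hxy⟩ := hx
      have : y = x := by
        have h1 : g * y * g⁻¹ = g * x * g⁻¹ := hxy
        simpa using h1
      rwa [← this]
  · intro h
    ext x
    constructor
    · rintro ⟨y, hy, rfl⟩
      exact (h y).1 hy
    · intro hx
      refine ⟨g⁻¹ * x * g, ?_, by simp [mul_assoc]⟩
      refine (h _).2 ?_
      have : g * (g⁻¹ * x * g) * g⁻¹ = x := by group
      rw [this]
      exact hx

theorem normalizer_le_of_map {F : Subgroup G → Subgroup G}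
    (hF : ∀ (g : G) (U : Subgroup G),
      F (U.map (MulAut.conj g).toMonoidHom) = (F U).map (MulAut.conj g).toMonoidHom)
    (U : Subgroup G) : normalizer (U : Set G) ≤ normalizer (F U : Set G) := by
  intro g hg
  rw [← map_conj_eq_iff] at hg ⊢
  rw [← hF, hg]

theorem normalizer_le_normalizer_thompsonSubgroupOf (U : Subgroup G) :
    normalizer (U : Set G) ≤ normalizer (thompsonSubgroupOf p U : Set G) :=
  normalizer_le_of_map (fun g U => thompsonSubgroupOf_map_conj p g U) U

theorem normalizer_le_normalizer_baumann (U : Subgroup G) :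
    normalizer (U : Set G) ≤ normalizer (baumannSubgroupOf p U : Set G) :=
  normalizer_le_of_map (fun g U => baumannSubgroupOf_map (MulAut.conj g).injective U) U

theorem normalizer_le_normalizer_omegaOneCenter (U : Subgroup G) :
    normalizer (U : Set G) ≤ normalizer (omegaOneCenter p U : Set G) :=
  normalizer_le_of_map (fun g U => omegaOneCenter_map (MulAut.conj g).injective U) U

theorem normalizer_le_normalizer_zj (U : Subgroup G) :
    normalizer (U : Set G) ≤ normalizer (zj p U : Set G) :=
  (normalizer_le_normalizer_thompsonSubgroupOf U).trans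
    (normalizer_le_normalizer_omegaOneCenter _)

theorem zj_map_conj (g : G) (U : Subgroup G) :
    zj p (U.map (MulAut.conj g).toMonoidHom) = (zj p U).map (MulAut.conj g).toMonoidHom := by
  unfold zj
  rw [thompsonSubgroupOf_map_conj, omegaOneCenter_map (MulAut.conj g).injective]

variable [Finite G] [Fact p.Prime]

/-- Sylow subgroups are conjugate, in the form used here. -/
theorem exists_map_conj_eq (S T : Sylow p G) :
    ∃ g : G, (S : Subgroup G).map (MulAut.conj g).toMonoidHom = T := by
  obtain ⟨g, hg⟩ := MulAction.exists_smul_eq G S T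
  refine ⟨g, ?_⟩
  rw [← hg, Sylow.coe_subgroup_smul]
  rfl

/-- `J(U) = J(T)` for a `p`-group `U ≥ J(T)`. -/
theorem thompsonSubgroupOf_eq (T : Sylow p G) {U : Subgroup G} (hU : IsPGroup p U)
    (h : thompsonSubgroupOf p (T : Subgroup G) ≤ U) :
    thompsonSubgroupOf p U = thompsonSubgroupOf p (T : Subgroup G) := by
  obtain ⟨S, hS⟩ := hU.exists_le_sylow
  obtain ⟨B, hB, hBT⟩ := exists_max_le_sylow T
  have hBJ : B ≤ thompsonSubgroupOf p (T : Subgroup G) := by
    rw [thompsonSubgroupOf_sylow_eq T]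
    exact le_sSup ⟨hB, hBT⟩
  have h1 : thompsonSubgroupOf p U = sSup {A | A ∈ maxElementaryAbelianSubgroups p G ∧ A ≤ U} :=
    thompsonSubgroupOf_eq_sSup hB (hBJ.trans h)
  have h2 : thompsonSubgroupOf p U ≤ thompsonSubgroupOf p (S : Subgroup G) := by
    rw [h1, thompsonSubgroupOf_sylow_eq S]
    exact sSup_le_sSup fun A hA => ⟨hA.1, hA.2.trans hS⟩
  have h3 : thompsonSubgroupOf p (T : Subgroup G) ≤ thompsonSubgroupOf p U := by
    conv_lhs => rw [thompsonSubgroupOf_sylow_eq T]
    rw [h1]
    refine sSup_le_sSup fun A hA => ⟨hA.1, le_trans ?_ h⟩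
    rw [thompsonSubgroupOf_sylow_eq T]
    exact le_sSup hA
  have h4 : Nat.card (thompsonSubgroupOf p (S : Subgroup G)) =
      Nat.card (thompsonSubgroupOf p (T : Subgroup G)) := by
    obtain ⟨g, hg⟩ := exists_map_conj_eq S T
    rw [← hg, thompsonSubgroupOf_map_conj, card_map_injective _ (MulAut.conj g).injective]
  have h5 := Subgroup.eq_of_le_of_card_ge (h3.trans h2) h4.le
  exact le_antisymm (h2.trans h5.symm.le) h3

theorem zj_eq (T : Sylow p G) {U : Subgroup G} (hU : IsPGroup p U)
    (h : thompsonSubgroupOf p (T : Subgroup G) ≤ U) :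
    zj p U = zj p (T : Subgroup G) := by
  unfold zj
  rw [thompsonSubgroupOf_eq T hU h]

/-- `B(U) = B(T)` for a `p`-group `U ≥ B(T)`. -/
theorem baumannSubgroupOf_eq (T : Sylow p G) {U : Subgroup G} (hU : IsPGroup p U)
    (h : baumannSubgroupOf p (T : Subgroup G) ≤ U) :
    baumannSubgroupOf p U = baumannSubgroupOf p (T : Subgroup G) := by
  obtain ⟨S, hS⟩ := hU.exists_le_sylow
  have hJ := (thompsonSubgroupOf_le_baumann (p := p) (T : Subgroup G)).trans h
  have h1 := zj_eq T hU hJ
  have h2 := zj_eq T S.2 (hJ.trans hS)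
  have h3 : baumannSubgroupOf p (T : Subgroup G) ≤ baumannSubgroupOf p U := by
    rw [baumannSubgroupOf_def U, h1]
    exact le_inf h (by rw [baumannSubgroupOf_def]; exact inf_le_right)
  have h4 : baumannSubgroupOf p U ≤ baumannSubgroupOf p (S : Subgroup G) := by
    rw [baumannSubgroupOf_def U, h1, baumannSubgroupOf_def (S : Subgroup G), h2]
    exact inf_le_inf_right _ hS
  have h5 : Nat.card (baumannSubgroupOf p (S : Subgroup G)) =
      Nat.card (baumannSubgroupOf p (T : Subgroup G)) := by
    obtain ⟨g, hg⟩ := exists_map_conj_eq S T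
    rw [← hg, baumannSubgroupOf_map (MulAut.conj g).injective,
      card_map_injective _ (MulAut.conj g).injective]
  have h6 := Subgroup.eq_of_le_of_card_ge (h3.trans h4) h5.le
  exact le_antisymm (h4.trans h6.symm.le) h3

/-- A `p`-group normalized by `B(T)` normalizes `B(T)`. -/
theorem le_normalizer_baumann (T : Sylow p G) {Q : Subgroup G} (hQ : IsPGroup p Q)
    (h : baumannSubgroupOf p (T : Subgroup G) ≤ normalizer (Q : Set G)) :
    Q ≤ normalizer (baumannSubgroupOf p (T : Subgroup G) : Set G) := by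
  have hB : IsPGroup p (baumannSubgroupOf p (T : Subgroup G)) :=
    T.2.to_le (baumannSubgroupOf_le _)
  have hU : IsPGroup p (baumannSubgroupOf p (T : Subgroup G) ⊔ Q : Subgroup G) :=
    hB.to_sup_of_normal_right' hQ h
  have h1 := baumannSubgroupOf_eq T hU le_sup_left
  have h2 := normalizer_le_normalizer_baumann (p := p) (baumannSubgroupOf p (T : Subgroup G) ⊔ Q)
  rw [h1] at h2
  exact (le_sup_right.trans le_normalizer).trans h2

end Conj

end Cfsg.Agent.H258.Bau
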